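import Mathlib.CategoryTheory.Localization.CalculusOfFractions
import Mathlib.CategoryTheory.Localization.Equivalence

/-!
# A criterion for localization functors
-/

set_option autoImplicit false

universe v u v' u'

open CategoryTheory

namespace K806.LocCrit

variable {C : Type u} [Category.{v} C] {D : Type u'} [Category.{v'} D] (F : C ⥤ D)

/-- The calculus of right fractions for the morphisms inverted by `F`. -/
theorem hasRightCalculus
    (h1 : ∀ (X Y : C) (f g : X ⟶ Y), F.map f = F.map g →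
      ∃ (X' : C) (s : X' ⟶ X), IsIso (F.map s) ∧ s ≫ f = s ≫ g)
    (h2 : ∀ (X Y : C) (φ : F.obj X ⟶ F.obj Y), ∃ (X' : C) (s : X' ⟶ X) (f : X' ⟶ Y),
      IsIso (F.map s) ∧ F.map s ≫ φ = F.map f) :
    ((MorphismProperty.isomorphisms D).inverseImage F).HasRightCalculusOfFractions where
  exists_rightFraction X Y φ := by
    have hs : IsIso (F.map φ.s) := φ.hs
    obtain ⟨X', s', f', hs', hf'⟩ := h2 X Y (F.map φ.f ≫ inv (F.map φ.s))
    have h : F.map (s' ≫ φ.f) = F.map (f' ≫ φ.s) := by
      rw [F.map_comp, F.map_comp, ← hf']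
      simp
    obtain ⟨X'', t, ht, h'⟩ := h1 _ _ _ _ h
    refine ⟨⟨t ≫ s', ?_, t ≫ f'⟩, ?_⟩
    · change IsIso (F.map (t ≫ s'))
      rw [F.map_comp]
      infer_instance
    · simpa using h'
  ext X Y Y' f₁ f₂ s hs h := by
    have hs' : IsIso (F.map s) := hs
    have h3 : F.map f₁ = F.map f₂ := by
      rw [← cancel_mono (F.map s), ← F.map_comp, ← F.map_comp, h]
    obtain ⟨X', t, ht, h'⟩ := h1 _ _ _ _ h3
    exact ⟨X', t, ht, h'⟩

/-- **Criterion.**  An essentially surjective functor such that (1) maps with the same image are equalized by a map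
inverted by `F` and (2) every map `F X ⟶ F Y` is a right fraction, is a localization functor for the maps it
inverts. -/
theorem isLocalization [F.EssSurj]
    (h1 : ∀ (X Y : C) (f g : X ⟶ Y), F.map f = F.map g →
      ∃ (X' : C) (s : X' ⟶ X), IsIso (F.map s) ∧ s ≫ f = s ≫ g)
    (h2 : ∀ (X Y : C) (φ : F.obj X ⟶ F.obj Y), ∃ (X' : C) (s : X' ⟶ X) (f : X' ⟶ Y),
      IsIso (F.map s) ∧ F.map s ≫ φ = F.map f) :
    F.IsLocalization ((MorphismProperty.isomorphisms D).inverseImage F) := by
  let W := (MorphismProperty.isomorphisms D).inverseImage F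
  have := hasRightCalculus F h1 h2
  have hW : W.IsInvertedBy F := fun _ _ f hf => hf
  let G := Localization.lift F hW W.Q
  let e : W.Q ⋙ G ≅ F := Localization.fac F hW W.Q
  have hQ := Localization.essSurj W.Q W
  have hnat : ∀ {X Y : C} (f : X ⟶ Y), G.map (W.Q.map f) = e.hom.app X ≫ F.map f ≫ e.inv.app Y :=
    fun f => by
      have := e.hom.naturality f
      rw [← Category.assoc, ← this]
      simp
  have hfaith : G.Faithful := by
    refine G.faithful_of_comp_essSurj W.Q fun X Y a b hab => ?_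
    obtain ⟨φ, hφ⟩ := Localization.exists_rightFraction W.Q W a
    have ha : W.Q.map φ.s ≫ a = W.Q.map φ.f := by
      rw [hφ, MorphismProperty.RightFraction.map_s_comp_map]
    obtain ⟨ψ, hψ⟩ := Localization.exists_rightFraction W.Q W (W.Q.map φ.s ≫ b)
    have hb : W.Q.map ψ.s ≫ W.Q.map φ.s ≫ b = W.Q.map ψ.f := by
      rw [hψ, MorphismProperty.RightFraction.map_s_comp_map]
    have i1 := Localization.inverts W.Q W _ φ.hs
    have i2 := Localization.inverts W.Q W _ ψ.hs
    rw [← cancel_epi (W.Q.map φ.s), ← cancel_epi (W.Q.map ψ.s), hb, ha, ← W.Q.map_comp]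
    have h3 : G.map (W.Q.map (ψ.s ≫ φ.f)) = G.map (W.Q.map ψ.f) := by
      rw [← hb, W.Q.map_comp, ← ha, G.map_comp, G.map_comp, G.map_comp, G.map_comp, hab]
    rw [hnat, hnat, cancel_epi, cancel_mono] at h3
    obtain ⟨X', t, ht, h'⟩ := h1 _ _ _ _ h3
    have i3 := Localization.inverts W.Q W t ht
    rw [← cancel_epi (W.Q.map t), ← W.Q.map_comp, h', W.Q.map_comp]
  have hfull : G.Full := by
    refine G.full_of_comp_essSurj W.Q fun X Y φ => ?_
    obtain ⟨X', s, f, hs, hf⟩ := h2 X Y (e.inv.app X ≫ φ ≫ e.hom.app Y)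
    have i1 : IsIso (W.Q.map s) := Localization.inverts W.Q W _ hs
    refine ⟨inv (W.Q.map s) ≫ W.Q.map f, ?_⟩
    rw [G.map_comp, Functor.map_inv, IsIso.inv_comp_eq, hnat, hnat, ← hf]
    simp
  have hess : G.EssSurj := ⟨fun d => ⟨W.Q.obj (F.objPreimage d),
    ⟨e.app (F.objPreimage d) ≪≫ F.objObjPreimageIso d⟩⟩⟩
  have : G.IsEquivalence := {}
  exact Functor.IsLocalization.of_equivalence_target W.Q W F G.asEquivalence e

end K806.LocCrit
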