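import Groth.Agent.Ega3B.Devissage
import Groth.Agent.CurvesB.SubClosed
import Groth.Agent.Ega1.SuppTensorMod
import Groth.Agent.Fga.IntegralSub
import Groth.Agent.CohqB.DevSimple
import Groth.Agent.CohqB.DevSupport
import Groth.Agent.FormalB.PullCoh
import Groth.Agent.Fdesc.StructMod
import Groth.Agent.S0019
import Groth.Agent.S0820

/-!
# Serre classes of coherent modules are determined by supports
-/

set_option autoImplicit false
universe u

open CategoryTheory CategoryTheory.Limits AlgebraicGeometry Opposite TopologicalSpace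

namespace K806.SerreGen

open Groth.Agent Groth.Agent.Ega3B.Devissage Groth.Agent.Ega3B.DevQC Groth.Agent.CycB.StalkExact

variable {X : Scheme.{u}}

/-- A Serre class on coherent modules. -/
def IsSerreCoh (P : X.Modules → Prop) : Prop :=
  ∀ S : ShortComplex X.Modules, S.ShortExact → Coh.IsCoh S.X₁ → Coh.IsCoh S.X₂ →
    Coh.IsCoh S.X₃ → (P S.X₂ ↔ P S.X₁ ∧ P S.X₃)

theorem ses_mono {M N : X.Modules} (f : M ⟶ N) [Mono f] :
    (ShortComplex.mk f (cokernel.π f) (cokernel.condition f)).ShortExact where
  exact := ShortComplex.exact_of_g_is_cokernel _ (cokernelIsCokernel f)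
  mono_f := by dsimp; infer_instance
  epi_g := by dsimp; infer_instance

theorem ses_epi {M N : X.Modules} (f : M ⟶ N) [Epi f] :
    (ShortComplex.mk (kernel.ι f) f (kernel.condition f)).ShortExact where
  exact := ShortComplex.exact_of_f_is_kernel _ (kernelIsKernel f)
  mono_f := by dsimp; infer_instance
  epi_g := by dsimp; infer_instance

theorem IsSerreCoh.of_mono {P : X.Modules → Prop} (hP : IsSerreCoh P) {M N : X.Modules} (f : M ⟶ N)
    [Mono f] (hM : Coh.IsCoh M) (hN : Coh.IsCoh N) (h : P N) : P M :=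
  ((hP _ (ses_mono f) hM hN (isCoh_cokernel f hM.1 hN)).mp h).1

theorem IsSerreCoh.of_epi [IsLocallyNoetherian X] {P : X.Modules → Prop} (hP : IsSerreCoh P)
    {M N : X.Modules} (f : M ⟶ N) [Epi f] (hM : Coh.IsCoh M) (hN : Coh.IsCoh N) (h : P M) : P N :=
  ((hP _ (ses_epi f) (isCoh_kernel f hM hN.1) hM hN).mp h).2

theorem isCoh_push_closed [IsLocallyNoetherian X] {Z : Scheme.{u}} (i : Z ⟶ X) [IsClosedImmersion i]
    (M : Z.Modules) (hM : Coh.IsCoh M) : Coh.IsCoh ((Scheme.Modules.pushforward i).obj M) :=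
  Groth.Agent.S0019.result i M hM

theorem isCoh_of_isZero' {M : X.Modules} (h : IsZero M) (N : X.Modules) (hN : Coh.IsCoh N) :
    Coh.IsCoh M := by
  have h1 : Coh.IsCoh (cokernel (𝟙 N)) := isCoh_cokernel _ hN.1 hN
  have h2 : IsZero (cokernel (𝟙 N)) := isZero_cokernel_of_epi _
  exact isCoh_of_iso (h2.iso h) h1

/-- A coherent module in a Serre class, with simple stalk at a given point of the support of a member of the class. -/
theorem exists_simple [IsNoetherian X] {P : X.Modules → Prop} (hP : IsSerreCoh P) (F : X.Modules)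
    (hF : Coh.IsCoh F) (hPF : P F) (y : X) (hy : y ∈ CohB1.support F) :
    ∃ G : X.Modules, Coh.IsCoh G ∧ P G ∧ CohB1.support G ⊆ closure {y} ∧
      IsSimpleModule (X.presheaf.stalk y) (G.presheaf.stalk y) := by
  obtain ⟨Z, i, hi, hZ, hgen, hrange⟩ := Groth.Agent.Fga.IntegralSub.exists_integral_closed y
  -- the quotient `F' = i_* i^* F` of `F`
  let F' := (Scheme.Modules.pushforward i).obj ((Scheme.Modules.pullback i).obj F)
  have hF' : Coh.IsCoh F' := isCoh_push_closed i _ (FormalB.PullCoh.isCoh_pullback i hF)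
  have hepi : Epi (CurvesB.SubClosed.unitι i F) := CurvesB.SubClosed.epi_unit i F
  have hPF' : P F' := hP.of_epi (CurvesB.SubClosed.unitι i F) hF hF' hPF
  have hF's : CohB1.support F' ⊆ closure {y} :=
    (Groth.Agent.CohqB.DevSimple.support_push_subset_range i _).trans hrange.le
  have hyF' : y ∈ CohB1.support F' := by
    change y ∈ CohB1.support ((Coh.push i).obj _)
    rw [Groth.Agent.CohqB.DevSimple.support_push]
    exact ⟨genericPoint Z, (Groth.Agent.Ega1.SuppTensorMod.mem_support_pullback i F hF.2 _).mpr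
      (hgen ▸ hy), hgen⟩
  -- the structure sheaf
  let G := (Coh.push i).obj (Coh.structureModule Z)
  have hG : Coh.IsCoh G := isCoh_push_closed i _
    (Groth.Agent.Fdesc.StructMod.isCoh_structureModule _)
  have hsimple : IsSimpleModule (X.presheaf.stalk y) (G.presheaf.stalk y) := by
    have : Nonempty (⊤ : Z.Opens) := ⟨⟨genericPoint Z, trivial⟩⟩
    have h := Groth.Agent.CohqB.DevSimple.isSimpleModule_stalk_push i (Coh.structureModule Z) ⊤
      ⟨Scheme.Modules.restrictUnitIso _⟩
    rw [hgen] at h
    exact h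
  obtain ⟨H, a, b, hH, -, ha, hb⟩ := exists_correspondence_of_simple y G F' hG hF' hsimple hyF'
    (fun z hz hz' => (hz.antisymm (specializes_iff_mem_closure.mpr (hF's hz'))).eq)
  have hc : Coh.IsCoh (cokernel b) := isCoh_cokernel b hH.1 hF'
  have hI : Coh.IsCoh (Abelian.image b) := isCoh_kernel (cokernel.π b) hF' hc.1
  refine ⟨Abelian.image b, hI, hP.of_mono (Abelian.image.ι b) hI hF' hPF',
    (support_subset_of_mono (Abelian.image.ι b)).trans hF's, ?_⟩
  have hbij : Function.Bijective (stalkLin (Abelian.factorThruImage b) y) := by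
    refine ⟨?_, stalkLin_surjective _ y⟩
    have h1 : stalkLin b y = (stalkLin (Abelian.image.ι b) y).comp
        (stalkLin (Abelian.factorThruImage b) y) := by
      rw [← stalkLin_comp, Abelian.image.fac]
    rw [h1, LinearMap.coe_comp] at hb
    exact hb.of_comp
  let e1 := LinearEquiv.ofBijective _ hbij
  let e2 := LinearEquiv.ofBijective _ ha
  exact IsSimpleModule.congr (e1.symm.trans e2)

/-- **Gabriel.**  A Serre class of coherent modules on a Noetherian scheme containing `F` contains every coherent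
module with support in the support of `F`. -/
theorem mem_of_support_subset [IsNoetherian X] {P : X.Modules → Prop} (hP : IsSerreCoh P)
    (F : X.Modules) (hF : Coh.IsCoh F) (hPF : P F) (E : X.Modules) (hE : Coh.IsCoh E)
    (hs : CohB1.support E ⊆ CohB1.support F) : P E := by
  refine (devissage (CohB1.support F) (isClosed_support hF) (fun M => Coh.IsCoh M ∧ P M) ?_ ?_ ?_
    E hE hs).2
  · intro M hM
    have hMc := isCoh_of_isZero' hM F hF
    have : Mono (0 : M ⟶ F) := ⟨fun _ _ _ => hM.eq_of_tgt _ _⟩
    exact ⟨hMc, hP.of_mono (0 : M ⟶ F) hMc hF hPF⟩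
  · intro S hS h1 h2 h3 _
    have h := hP S hS h1 h2 h3
    exact ⟨fun _ hb => ⟨h3, (h.mp hb.2).2⟩, fun ha hb => ⟨h2, h.mpr ⟨ha.2, hb.2⟩⟩,
      fun ha _ => ⟨h1, (h.mp ha.2).1⟩⟩
  · intro y hy
    obtain ⟨G, hG, hPG, hGs, hsimple⟩ := exists_simple hP F hF hPF y hy
    exact ⟨G, hG, ⟨hG, hPG⟩, hGs, hsimple⟩

/-- Coherent modules with support in a given set form a Serre class. -/
theorem isSerreCoh_support (T : Set X) : IsSerreCoh (fun M : X.Modules => CohB1.support M ⊆ T) := by
  intro S hS _ _ _
  change CohB1.support S.X₂ ⊆ T ↔ CohB1.support S.X₁ ⊆ T ∧ CohB1.support S.X₃ ⊆ T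
  rw [Groth.Agent.CohqB.DevSupport.support_shortExact hS, Set.union_subset_iff]

/-- Coherent modules whose support does not meet a given set form a Serre class. -/
theorem isSerreCoh_notMem (y : X) : IsSerreCoh (fun M : X.Modules => y ∉ CohB1.support M) := by
  intro S hS _ _ _
  change y ∉ CohB1.support S.X₂ ↔ y ∉ CohB1.support S.X₁ ∧ y ∉ CohB1.support S.X₃
  rw [Groth.Agent.CohqB.DevSupport.support_shortExact hS, Set.mem_union, not_or]

/-- The class of coherent modules with a given closed support. -/
theorem exists_coh_support_eq [IsLocallyNoetherian X] (Z : Closeds X) :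
    ∃ F : X.Modules, Coh.IsCoh F ∧ CohB1.support F = (Z : Set X) := by
  let J : X.IdealSheafData := Scheme.IdealSheafData.vanishingIdeal Z
  have hr : Set.range J.subschemeι = (Z : Set X) := by
    erw [Scheme.IdealSheafData.range_subschemeι]
    rw [Scheme.IdealSheafData.coe_support_vanishingIdeal]
  refine ⟨(Scheme.Modules.pushforward J.subschemeι).obj (Coh.structureModule _),
    isCoh_push_closed _ _ (Groth.Agent.Fdesc.StructMod.isCoh_structureModule _), ?_⟩
  rw [← hr]
  exact Groth.Agent.S0820.support_eq J.subschemeι (hr ▸ Z.isClosed)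

end K806.SerreGen
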